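import Cfsg.Agent.H785.DoGeoCov
import Cfsg.Agent.H907.Odm.CovPre
import Cfsg.Agent.H264.FKS.ResCore
import Cfsg.Agent.H453.OddM.Asm

/-!
# S4785 (TEAM ODDM): the rows `PΩ^±_{2m}(q)`, `m` and `q` odd: assembly (helper660)
-/

set_option autoImplicit false

namespace Cfsg.Agent.H660.OddM

open Module Cfsg Cfsg.Geo Cfsg.Agent.OrdDiv Cfsg.Agent.H436 Cfsg.Agent.H453.OddM Cfsg.Agent.H884.El

universe u

/-- the second alternative of `cov_oplus` is impossible -/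
def GeoP (m : ℕ) : Prop := ∀ (F : Type) [Field F] [Fintype F], Odd (Fintype.card F) →
  ∀ M : Subgroup (POmega F (quadFormPlus m F)), Cov (POmega F (quadFormPlus m F)) M →
  ∀ W : Submodule F (Fin m ⊕ Fin m → F), pre (quadFormPlus m F) M ≤ subspaceStabilizer W →
    finrank F W = 1 ∨ finrank F W = 2 → False

def GeoM (m : ℕ) : Prop := ∀ (F : Type) [Field F] [Fintype F], Odd (Fintype.card F) →
  ∀ a b : F, (∀ z₁ z₂ : F, z₁ ^ 2 + a * z₁ * z₂ + b * z₂ ^ 2 = 0 → z₁ = 0 ∧ z₂ = 0) →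
  ∀ M : Subgroup (POmega F (quadFormMinus (m - 1) F a b)), Cov (POmega F (quadFormMinus (m - 1) F a b)) M →
  ∀ W : Submodule F ((Fin (m - 1) ⊕ Fin (m - 1)) ⊕ Fin 2 → F),
    pre (quadFormMinus (m - 1) F a b) M ≤ subspaceStabilizer W → finrank F W = 1 ∨ finrank F W = 2 → False

def ResP (m : ℕ) : Prop := ∀ (F : Type) [Field F] [Fintype F], Odd (Fintype.card F) →
  ∀ M : Subgroup (POmega F (quadFormPlus m F)), M ≠ ⊤ → Cov (POmega F (quadFormPlus m F)) M →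
  ∀ P : Subgroup (GL (Fin m ⊕ Fin m) F), IsResidualCore (pre (quadFormPlus m F) M) P → False

def ResM (m : ℕ) : Prop := ∀ (F : Type) [Field F] [Fintype F], Odd (Fintype.card F) →
  ∀ a b : F, (∀ z₁ z₂ : F, z₁ ^ 2 + a * z₁ * z₂ + b * z₂ ^ 2 = 0 → z₁ = 0 ∧ z₂ = 0) →
  ∀ M : Subgroup (POmega F (quadFormMinus (m - 1) F a b)), M ≠ ⊤ → Cov (POmega F (quadFormMinus (m - 1) F a b)) M →
  ∀ P : Subgroup (GL ((Fin (m - 1) ⊕ Fin (m - 1)) ⊕ Fin 2) F),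
    IsResidualCore (pre (quadFormMinus (m - 1) F a b) M) P → False

theorem two_ne {F : Type} [Field F] [Fintype F] (h : Odd (Fintype.card F)) : (2 : F) ≠ 0 :=
  H264.FKS.two_ne_zero_of_odd h

theorem odd_of_not {q : ℕ} (h : ¬ 2 ∣ q) : Odd q := Nat.not_even_iff_odd.1 fun h1 => h (even_iff_two_dvd.1 h1)

/-- `PΩ⁺_{2m}(q)`, `m` and `q` odd -/
theorem row_oplus_odd_of {n q : ℕ} (hG : GeoP n) (hR : ResP n) (ho : Odd n) (h2 : ¬ 2 ∣ q) :
    RowN.{u} (.oplus n q) := by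
  intro T _ _ _ h
  have hn : 4 ≤ n := h.cond.1
  have hn5 : 5 ≤ n := by obtain ⟨k, rfl⟩ := ho; omega
  obtain ⟨F, _, _, hF, ⟨e⟩⟩ := h.real
  subst hF
  have hF2 : Odd (Fintype.card F) := odd_of_not h2
  refine (Row.congr e.symm (RowC.row fun M hM hc => ?_)).row8
  rcases H785.DoGeo.cov_oplus (two_ne hF2) hn5 ho hc with ⟨P, hP, -⟩ | ⟨W, hW, hd⟩
  · exact hR F hF2 M hM.1 hc P hP
  · exact hG F hF2 M hc W hW hd

/-- `PΩ⁻_{2m}(q)`, `m` and `q` odd -/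
theorem row_ominus_odd_of {n q : ℕ} (hG : GeoM n) (hR : ResM n) (ho : Odd n) (h2 : ¬ 2 ∣ q) :
    RowN.{u} (.ominus n q) := by
  intro T _ _ _ h
  have hn : 4 ≤ n := h.cond.1
  have hn5 : 5 ≤ n := by obtain ⟨k, rfl⟩ := ho; omega
  obtain ⟨F, _, _, a, b, hF, hab, ⟨e⟩⟩ := h.real
  subst hF
  have hF2 : Odd (Fintype.card F) := odd_of_not h2
  refine (Row.congr e.symm (RowC.row fun M hM hc => ?_)).row8
  rcases H785.DoGeo.cov_ominus (two_ne hF2) hn5 ho hab hc with ⟨P, hP, -⟩ | ⟨W, hW, hd⟩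
  · exact hR F hF2 a b hab M hM.1 hc P hP
  · exact hG F hF2 a b hab M hc W hW hd

end Cfsg.Agent.H660.OddM
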