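import Cfsg.Agent.H453.OddM.Defs
import Cfsg.Agent.H610.TableCl
import Cfsg.Agent.H376.SpEmb

/-!
# Real elements of odd order in `SL(2,q)`, `Sp(2m,q)`, `SL(n,q)`, `SU(n,q)`, `q` odd (TEAM ODDM, S4785, piece C1a)

For `v` odd, `v ∣ q ^ k - 1` or `v ∣ q ^ k + 1`:

* `realP_sl_two`      : `k = 1`, `SL(2, q)`
* `realP_sp`, `realP_psp` : `1 ≤ k ≤ m`
* `realP_sl`, `realP_psl` : `1 ≤ k`, `2 k ≤ n`
* `realP_su`, `realP_psu` : `1 ≤ k`, `2 k ≤ n`
* `dvd_iff_of_prime_pow`  : for `v = r ^ a`, `r` an odd prime:  `v ∣ q ^ (2 k) - 1` iff one of the two holds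
* `realP_psp_ord`, `realP_psl_ord`, `realP_psu_ord` : in terms of `e = orderOf (q : ZMod r)`.
-/

set_option autoImplicit false

namespace Cfsg.Agent.H453.OddM

open Matrix
open Cfsg.Agent.H376

/-! ### general facts -/

theorem realP_of_injective {S T : Type*} [Group S] [Group T] (f : S →* T) (hf : Function.Injective f) {v : ℕ}
    (h : RealP S v) : RealP T v := by
  obtain ⟨x, hx, hr⟩ := h
  exact ⟨f x, by rw [orderOf_injective f hf, hx], hr.map f⟩

/-- a real element of odd order keeps its order modulo the centre -/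
theorem realP_quot_center {G : Type*} [Group G] {v : ℕ} (hv : Odd v) (h : RealP G v) :
    RealP (G ⧸ Subgroup.center G) v := by
  obtain ⟨x, hx, hr⟩ := h
  refine ⟨QuotientGroup.mk' _ x, ?_, hr.map (QuotientGroup.mk' _)⟩
  rw [← hx, orderOf_eq_orderOf_iff]
  intro j
  constructor
  · intro hj
    have h1 : x ^ j ∈ Subgroup.center G := by
      rw [← map_pow] at hj
      exact (QuotientGroup.eq_one_iff _).1 hj
    obtain ⟨g, hg⟩ := hr.pow j
    rw [Subgroup.mem_center_iff] at h1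
    rw [h1 g, mul_inv_cancel_right] at hg
    have h2 : x ^ (j * 2) = 1 := by
      rw [pow_mul, pow_two]
      nth_rewrite 2 [hg]
      exact mul_inv_cancel _
    have h3 : v ∣ j * 2 := by rw [← hx]; exact orderOf_dvd_of_pow_eq_one h2
    have h4 : v ∣ j := (Nat.coprime_two_right.2 hv).dvd_of_dvd_mul_right h3
    rw [← hx] at h4
    exact orderOf_dvd_iff_pow_eq_one.1 h4
  · intro hj
    rw [← map_pow, hj, map_one]

/-! ### `SL(2, q)` -/

section SLTwo

variable {K : Type*} [Field K] [Finite K]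

omit [Finite K] in
theorem dgMat_det (a : Kˣ) : (!![(a : K), 0; 0, ((a⁻¹ : Kˣ) : K)] : Matrix (Fin 2) (Fin 2) K).det = 1 := by
  rw [Matrix.det_fin_two_of, mul_zero, sub_zero, ← Units.val_mul, mul_inv_cancel, Units.val_one]

/-- the diagonal torus -/
def dgHom (K : Type*) [Field K] : Kˣ →* SpecialLinearGroup (Fin 2) K where
  toFun a := ⟨!![(a : K), 0; 0, ((a⁻¹ : Kˣ) : K)], dgMat_det a⟩
  map_one' := by
    apply Subtype.ext
    ext i j
    fin_cases i <;> fin_cases j <;> simp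
  map_mul' a b := by
    apply Subtype.ext
    show !![((a * b : Kˣ) : K), 0; 0, (((a * b)⁻¹ : Kˣ) : K)] =
      !![(a : K), 0; 0, ((a⁻¹ : Kˣ) : K)] * !![(b : K), 0; 0, ((b⁻¹ : Kˣ) : K)]
    ext i j
    fin_cases i <;> fin_cases j <;> simp [mul_comm]

omit [Finite K] in
theorem dgHom_injective : Function.Injective (dgHom K) := by
  intro a b hab
  have h1 : (a : K) = b := congrFun (congrFun (congrArg (fun z : SpecialLinearGroup (Fin 2) K => z.1) hab) 0) 0
  exact Units.ext h1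

/-- the antidiagonal element -/
def wElt (K : Type*) [Field K] : SpecialLinearGroup (Fin 2) K :=
  ⟨!![0, 1; -1, 0], by rw [Matrix.det_fin_two_of]; ring⟩

omit [Finite K] in
theorem wElt_conj (a : Kˣ) : wElt K * dgHom K a * (wElt K)⁻¹ = (dgHom K a)⁻¹ := by
  rw [← map_inv, mul_inv_eq_iff_eq_mul]
  apply Subtype.ext
  show !![(0 : K), 1; -1, 0] * !![(a : K), 0; 0, ((a⁻¹ : Kˣ) : K)] =
    !![((a⁻¹ : Kˣ) : K), 0; 0, (((a⁻¹)⁻¹ : Kˣ) : K)] * !![(0 : K), 1; -1, 0]
  ext i j
  fin_cases i <;> fin_cases j <;> simp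

theorem realP_sl_two_split {v : ℕ} (h : v ∣ Nat.card K - 1) :
    RealP (SpecialLinearGroup (Fin 2) K) v := by
  have hcard : Nat.card Kˣ = Nat.card K - 1 := by
    rw [Nat.card_units]
  obtain ⟨g, hg⟩ := IsCyclic.exists_generator (α := Kˣ)
  have hgo : orderOf g = Nat.card K - 1 := by rw [orderOf_eq_card_of_forall_mem_zpowers hg, hcard]
  have hK : 1 < Nat.card K := Finite.one_lt_card
  obtain ⟨a, ha⟩ : ∃ a : Kˣ, orderOf a = v := SpEmb.exists_of_dvd (by omega) h ⟨g, hgo⟩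
  exact ⟨dgHom K a, by rw [orderOf_injective _ dgHom_injective, ha], wElt K, wElt_conj a⟩

theorem realP_sl_two_nonsplit (h2 : (2 : K) ≠ 0) {v : ℕ} (hv : Odd v) (h : v ∣ Nat.card K + 1) :
    RealP (SpecialLinearGroup (Fin 2) K) v := by
  classical
  let _ := Fintype.ofFinite K
  have hK : 1 < Nat.card K := Finite.one_lt_card
  obtain ⟨y, hy⟩ : ∃ y : SpecialLinearGroup (Fin 2) K, orderOf y = v :=
    SpEmb.exists_of_dvd (by omega) h (SpEmb.exists_SL_two K)
  by_cases hv1 : v = 1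
  · refine ⟨1, by rw [orderOf_one, hv1], IsReal.one⟩
  have hyv : y ^ v = 1 := by rw [← hy, pow_orderOf_eq_one]
  have hyM : (y.1) ^ v = 1 := by
    have := congrArg Subtype.val hyv
    simpa using this
  have hy1 : y ≠ 1 := by
    rintro rfl
    rw [orderOf_one] at hy
    exact hv1 hy.symm
  refine ⟨y, hy, ?_⟩
  have hconj := H610.SpField.sl_two_real h2 y fun t ht => ?_
  · obtain ⟨g, hg⟩ := isConj_iff.1 hconj
    exact ⟨g, hg⟩
  -- `t` is an eigenvalue
  have hroot : y.1.charpoly.IsRoot t := by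
    rw [Matrix.charpoly_fin_two, Polynomial.IsRoot.def]
    simp only [Polynomial.eval_add, Polynomial.eval_sub, Polynomial.eval_pow, Polynomial.eval_X,
      Polynomial.eval_mul, Polynomial.eval_C]
    rw [y.2, Matrix.trace_fin_two]
    exact ht
  have ht0 : t ≠ 0 := by
    rintro rfl
    simp at ht
  have htv : t ^ v = 1 := by
    have h1 : (Matrix.toLin' y.1).charpoly.IsRoot t := by rwa [Matrix.charpoly_toLin']
    have h3 := (Module.End.hasEigenvalue_iff_isRoot_charpoly (Matrix.toLin' y.1) t).2 h1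
    obtain ⟨w, hw⟩ := h3.exists_hasEigenvector
    have h4 := hw.apply_eq_smul
    rw [Matrix.toLin'_apply] at h4
    have h5 : ∀ j : ℕ, (y.1 ^ j) *ᵥ w = t ^ j • w := by
      intro j
      induction j with
      | zero => simp
      | succ j ih => rw [pow_succ', ← Matrix.mulVec_mulVec, ih, Matrix.mulVec_smul, h4, smul_smul, pow_succ]
    have h6 := h5 v
    rw [hyM, Matrix.one_mulVec] at h6
    have h7 : (t ^ v - 1) • w = 0 := by rw [sub_smul, one_smul, ← h6, sub_self]
    rcases smul_eq_zero.1 h7 with h8 | h8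
    · exact sub_eq_zero.1 h8
    · exact absurd h8 hw.2
  have ht1 : t = 1 := by
    have h3 : t ^ (Fintype.card K - 1) = 1 := FiniteField.pow_card_sub_one_eq_one t ht0
    rw [Nat.card_eq_fintype_card] at h hK
    have h4 : Nat.Coprime v (Fintype.card K - 1) := by
      have h5 : Nat.gcd v (Fintype.card K - 1) ∣ 2 := by
        have h6 : Nat.gcd v (Fintype.card K - 1) ∣ Fintype.card K + 1 := (Nat.gcd_dvd_left _ _).trans h
        have h7 : Nat.gcd v (Fintype.card K - 1) ∣ Fintype.card K - 1 := Nat.gcd_dvd_right _ _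
        have h8 := (Nat.dvd_add_right h7).1 (by
          rw [show Fintype.card K - 1 + 2 = Fintype.card K + 1 by omega]; exact h6)
        exact h8
      have h6 : Nat.Coprime v 2 := Nat.coprime_two_right.2 hv
      have h7 : Nat.gcd v (Fintype.card K - 1) ∣ Nat.gcd v 2 := Nat.dvd_gcd (Nat.gcd_dvd_left _ _) h5
      rw [h6] at h7
      exact Nat.dvd_one.1 h7
    have h5 : orderOf t ∣ 1 := by
      rw [← h4]
      exact Nat.dvd_gcd (orderOf_dvd_of_pow_eq_one htv) (orderOf_dvd_of_pow_eq_one h3)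
    exact orderOf_eq_one_iff.1 (Nat.dvd_one.1 h5)
  subst ht1
  -- `(y - 1) ^ 2 = 0`
  have htr : y.1 0 0 + y.1 1 1 = 2 := by linear_combination -ht
  have hCH := Matrix.aeval_self_charpoly y.1
  rw [Matrix.charpoly_fin_two, y.2, Matrix.trace_fin_two, htr] at hCH
  simp only [map_sub, map_add, map_mul, map_pow, Polynomial.aeval_X, Polynomial.aeval_C, map_one] at hCH
  set N : Matrix (Fin 2) (Fin 2) K := y.1 - 1 with hN
  have hNN : N * N = 0 := by
    have h3 : (algebraMap K (Matrix (Fin 2) (Fin 2) K)) 2 = 2 := by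
      rw [map_ofNat]
    rw [h3] at hCH
    rw [← hCH, hN]
    noncomm_ring
  have hpow : ∀ j : ℕ, y.1 ^ j = 1 + (j : K) • N := by
    intro j
    have hyN : y.1 = 1 + N := by rw [hN]; abel
    induction j with
    | zero => simp
    | succ j ih =>
      rw [pow_succ, ih, hyN, add_mul, one_mul, mul_add, mul_one, smul_mul_assoc, hNN, smul_zero, add_zero]
      push_cast
      rw [add_smul, one_smul]
      abel
  have h9 := hpow v
  rw [hyM, left_eq_add] at h9
  have hvK : (v : K) ≠ 0 := by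
    intro h0
    obtain ⟨c, hc⟩ := h
    have h10 : ((Nat.card K + 1 : ℕ) : K) = 0 := by rw [hc]; push_cast; rw [h0, zero_mul]
    push_cast at h10
    rw [Nat.card_eq_fintype_card, FiniteField.cast_card_eq_zero, zero_add] at h10
    exact one_ne_zero h10
  rcases smul_eq_zero.1 h9 with h10 | h10
  · exact hvK h10
  · exact hy1 (Subtype.ext (by rw [hN, sub_eq_zero] at h10; exact h10))

theorem realP_sl_two (h2 : (2 : K) ≠ 0) {v : ℕ} (hv : Odd v) (h : v ∣ Nat.card K - 1 ∨ v ∣ Nat.card K + 1) :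
    RealP (SpecialLinearGroup (Fin 2) K) v := by
  rcases h with h | h
  · exact realP_sl_two_split h
  · exact realP_sl_two_nonsplit h2 hv h

end SLTwo

/-! ### `Sp(2m, q)` -/

section Sp

variable {F : Type*} [Field F] [Fintype F]

theorem realP_sp_full (h2 : (2 : F) ≠ 0) {k v : ℕ} (hk : 1 ≤ k) (hv : Odd v)
    (h : v ∣ Fintype.card F ^ k - 1 ∨ v ∣ Fintype.card F ^ k + 1) :
    RealP (symplecticGroup (Fin k) F) v := by
  classical
  obtain ⟨p, hp⟩ := CharP.exists F
  have hpp : Fact p.Prime := ⟨CharP.char_is_prime F p⟩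
  have hk0 : NeZero k := ⟨by omega⟩
  let E := FiniteField.Extension F p k
  have : Finite E := inferInstance
  have : Fintype E := Fintype.ofFinite E
  have hE : Nat.card E = Fintype.card F ^ k := by
    rw [← Nat.card_eq_fintype_card]
    exact FiniteField.natCard_extension F p k
  have hE2 : (2 : E) ≠ 0 := by
    have h3 : algebraMap F E 2 ≠ 0 := by
      rw [Ne, FaithfulSMul.algebraMap_eq_zero_iff]
      exact h2
    rwa [map_ofNat] at h3
  have hfin : Module.finrank F E = k := FiniteField.finrank_extension F p k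
  let b : Module.Basis (Fin k) F E := Module.finBasisOfFinrankEq F E hfin
  exact realP_of_injective (H610.SpField.emb b) (H610.SpField.emb_injective b)
    (realP_sl_two hE2 hv (by rw [hE]; exact h))

omit [Fintype F] in
/-- `Sp_2k → Sp_2m` for `k ≤ m` -/
theorem exists_sp_sp {k m : ℕ} (hkm : k ≤ m) : ∃ f : symplecticGroup (Fin k) F →* symplecticGroup (Fin m) F,
    Function.Injective f := by
  obtain ⟨c, rfl⟩ := Nat.exists_eq_add_of_le hkm
  refine ⟨(SpEmb.reidx finSumFinEquiv).comp ((SpEmb.blk (Fin k) (Fin c)).comp (MonoidHom.inl _ _)), ?_⟩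
  exact (SpEmb.reidx_injective _).comp ((SpEmb.blk_injective _ _).comp (fun a b h => (Prod.ext_iff.1 h).1))

theorem realP_sp (h2 : (2 : F) ≠ 0) {m k v : ℕ} (hk : 1 ≤ k) (hkm : k ≤ m) (hv : Odd v)
    (h : v ∣ Fintype.card F ^ k - 1 ∨ v ∣ Fintype.card F ^ k + 1) : RealP (symplecticGroup (Fin m) F) v := by
  obtain ⟨f, hf⟩ := exists_sp_sp (F := F) hkm
  exact realP_of_injective f hf (realP_sp_full h2 hk hv h)

theorem realP_psp (h2 : (2 : F) ≠ 0) {m k v : ℕ} (hk : 1 ≤ k) (hkm : k ≤ m) (hv : Odd v)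
    (h : v ∣ Fintype.card F ^ k - 1 ∨ v ∣ Fintype.card F ^ k + 1) : RealP (PSp m F) v :=
  realP_quot_center hv (realP_sp h2 hk hkm hv h)

end Sp

/-! ### `SL(n, q)` -/

section SL

variable {F : Type*} [Field F]

/-- block sum with the identity -/
def slAddB {ι : Type*} [Fintype ι] [DecidableEq ι] (β : Type*) [Fintype β] [DecidableEq β] :
    SpecialLinearGroup ι F →* SpecialLinearGroup (ι ⊕ β) F where
  toFun A := ⟨Matrix.fromBlocks A.1 0 0 1, by
    rw [Matrix.det_fromBlocks_zero₂₁, Matrix.det_one, mul_one, A.2]⟩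
  map_one' := Subtype.ext (by
    show Matrix.fromBlocks (1 : Matrix ι ι F) 0 0 1 = 1
    rw [Matrix.fromBlocks_one])
  map_mul' A B := Subtype.ext (by
    show Matrix.fromBlocks (A.1 * B.1) 0 0 1 =
      Matrix.fromBlocks A.1 0 0 1 * Matrix.fromBlocks B.1 0 0 (1 : Matrix β β F)
    rw [Matrix.fromBlocks_multiply]
    simp)

theorem slAddB_injective {ι : Type*} [Fintype ι] [DecidableEq ι] (β : Type*) [Fintype β] [DecidableEq β] :
    Function.Injective (slAddB (F := F) (ι := ι) β) := by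
  intro A B h
  have h4 : Matrix.fromBlocks A.1 0 0 (1 : Matrix β β F) = Matrix.fromBlocks B.1 0 0 1 := congrArg Subtype.val h
  rw [Matrix.fromBlocks_inj] at h4
  exact Subtype.ext h4.1

theorem slReindex_injective {ι κ : Type*} [Fintype ι] [DecidableEq ι] [Fintype κ] [DecidableEq κ] (e : ι ≃ κ) :
    Function.Injective (H610.TableCl.slReindex (F := F) e) := by
  intro A B hAB
  exact Subtype.ext ((Matrix.reindexAlgEquiv F F e).injective (congrArg Subtype.val hAB))

theorem un_fromBlocksB {ι β : Type*} [Fintype ι] [DecidableEq ι] [Fintype β] [DecidableEq β] {σ : F →+* F}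
    {A : Matrix ι ι F} (h : H610.TableCl.Un σ A) :
    H610.TableCl.Un σ (Matrix.fromBlocks A 0 0 (1 : Matrix β β F)) := by
  unfold H610.TableCl.Un at *
  rw [Matrix.fromBlocks_map, Matrix.fromBlocks_transpose, Matrix.fromBlocks_multiply, h]
  simp

theorem realP_sl [Fintype F] (h2 : (2 : F) ≠ 0) {n k v : ℕ} (hk : 1 ≤ k) (hkn : 2 * k ≤ n) (hv : Odd v)
    (h : v ∣ Fintype.card F ^ k - 1 ∨ v ∣ Fintype.card F ^ k + 1) : RealP (SpecialLinearGroup (Fin n) F) v := by
  classical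
  let e : (Fin k ⊕ Fin k) ⊕ Fin (n - 2 * k) ≃ Fin n := Fintype.equivFinOfCardEq (by
    rw [Fintype.card_sum, Fintype.card_sum, Fintype.card_fin, Fintype.card_fin]
    omega)
  refine realP_of_injective ((H610.TableCl.slReindex e).comp ((slAddB _).comp (H610.TableCl.spSL k))) ?_
    (realP_sp_full h2 hk hv h)
  exact (slReindex_injective e).comp ((slAddB_injective _).comp
    (fun A B hAB => Subtype.ext (congrArg (fun z : SpecialLinearGroup (Fin k ⊕ Fin k) F => z.1) hAB)))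

theorem realP_psl [Fintype F] (h2 : (2 : F) ≠ 0) {n k v : ℕ} (hk : 1 ≤ k) (hkn : 2 * k ≤ n) (hv : Odd v)
    (h : v ∣ Fintype.card F ^ k - 1 ∨ v ∣ Fintype.card F ^ k + 1) :
    RealP (ProjectiveSpecialLinearGroup (Fin n) F) v :=
  realP_quot_center hv (realP_sl h2 hk hkn hv h)

end SL

/-! ### `SU(n, q)` -/

section SU

variable {F : Type*} [Field F] [Fintype F]

/-- `Sp_2k(q) → SU_n(q)` for `q` odd, `2 k ≤ n` -/
theorem exists_sp_su {q : ℕ} (hF : Fintype.card F = q ^ 2) (h2 : (2 : F) ≠ 0) {n k : ℕ} (hkn : 2 * k ≤ n) :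
    ∃ (K : Type) (_ : Field K) (_ : Fintype K), Fintype.card K = q ∧ (2 : K) ≠ 0 ∧
      ∃ g : symplecticGroup (Fin k) K →* SU n F q, Function.Injective g := by
  classical
  obtain ⟨σ, hσ⟩ := ClassicalGeometry.GUBasic.exists_powHom hF
  obtain ⟨l, hl⟩ := H610.TableL3.exists_norm_neg_one hF h2
  obtain ⟨K, _, _, hK, ⟨f⟩⟩ := H610.TableCl.exists_subfield hF
  have hq := ClassicalGeometry.GUBasic.two_le hF
  have hσσ : ∀ x, σ (σ x) = x := by
    intro x
    rw [hσ, hσ, ← pow_mul, ← pow_two, ← hF]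
    exact FiniteField.pow_card x
  have hσf : ∀ x, σ (f x) = f x := by
    intro x
    rw [hσ, ← map_pow, ← hK, FiniteField.pow_card]
  obtain ⟨x, hx⟩ : ∃ x, σ x ≠ x := by
    by_contra hcon
    push Not at hcon
    have h1 : (Finset.univ : Finset F).card ≤ q := by
      have h3 : ∀ x ∈ (Finset.univ : Finset F), x ∈ (Polynomial.X ^ q - Polynomial.X : Polynomial F).roots := by
        intro x _
        rw [Polynomial.mem_roots (FiniteField.X_pow_card_sub_X_ne_zero F hq), Polynomial.IsRoot.def]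
        simp only [Polynomial.eval_sub, Polynomial.eval_pow, Polynomial.eval_X]
        rw [← hσ, hcon, sub_self]
      have h4 : (Finset.univ : Finset F).val ≤ (Polynomial.X ^ q - Polynomial.X : Polynomial F).roots :=
        (Multiset.le_iff_subset Finset.univ.nodup).2 fun x hx => h3 x hx
      have h5 := Multiset.card_le_card h4
      have h6 := Polynomial.card_roots' (Polynomial.X ^ q - Polynomial.X : Polynomial F)
      rw [FiniteField.X_pow_card_sub_X_natDegree_eq F hq] at h6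
      exact h5.trans h6
    rw [Finset.card_univ, hF] at h1
    nlinarith
  have hd : H610.TableCl.Hd σ (x - σ x) l (1 / 2) :=
    { inv := hσσ
      half := by field_simp
      ne := sub_ne_zero.2 (Ne.symm hx)
      anti := by rw [map_sub, hσσ]; ring
      norm := by rw [hσ, ← pow_succ', hl] }
  have h2K : (2 : K) ≠ 0 := by
    intro h
    apply h2
    have := congrArg f h
    rwa [map_ofNat, map_zero] at this
  refine ⟨K, inferInstance, inferInstance, hK, h2K, ?_⟩
  have hA : ∀ A : symplecticGroup (Fin k) K, H610.TableCl.Un σ (H610.TableCl.conjEquiv hd (A.1.map f)) := fun A =>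
    H610.TableCl.un_conj hd (H610.TableCl.mem_symplectic_map f A.2) (by
      ext i j
      exact hσf _)
  have hinj : ∀ A B : symplecticGroup (Fin k) K,
      H610.TableCl.conjEquiv hd (A.1.map f) = H610.TableCl.conjEquiv hd (B.1.map f) → A = B := by
    intro A B hAB
    have h3 := (H610.TableCl.conjEquiv hd).injective hAB
    apply Subtype.ext
    ext i j
    have h4 := congrFun (congrFun h3 i) j
    exact f.injective h4
  let e : (Fin k ⊕ Fin k) ⊕ Fin (n - 2 * k) ≃ Fin n := Fintype.equivFinOfCardEq (by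
    rw [Fintype.card_sum, Fintype.card_sum, Fintype.card_fin, Fintype.card_fin]
    omega)
  let g : symplecticGroup (Fin k) K →* SpecialLinearGroup (Fin n) F :=
    (H610.TableCl.slReindex e).comp ((slAddB _).comp (H610.TableCl.spC hd f k))
  have hg : Function.Injective g := (slReindex_injective e).comp ((slAddB_injective _).comp
    (fun A B hAB => hinj A B (congrArg Subtype.val hAB)))
  have hun : ∀ A, H610.TableCl.Un σ (g A).1 := fun A => (un_fromBlocksB (hA A)).reindex e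
  have hmem : ∀ A, g A ∈ SU n F q := fun A => H610.TableCl.mem_SU σ hσ _ (hun A)
  exact ⟨g.codRestrict _ hmem, fun A B hAB => hg (congrArg Subtype.val hAB)⟩

theorem realP_su {q : ℕ} (hF : Fintype.card F = q ^ 2) (h2 : (2 : F) ≠ 0) {n k v : ℕ} (hk : 1 ≤ k)
    (hkn : 2 * k ≤ n) (hv : Odd v) (h : v ∣ q ^ k - 1 ∨ v ∣ q ^ k + 1) : RealP (SU n F q) v := by
  obtain ⟨K, _, _, rfl, h2K, g, hg⟩ := exists_sp_su hF h2 hkn
  exact realP_of_injective g hg (realP_sp_full h2K hk hv h)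

theorem realP_psu {q : ℕ} (hF : Fintype.card F = q ^ 2) (h2 : (2 : F) ≠ 0) {n k v : ℕ} (hk : 1 ≤ k)
    (hkn : 2 * k ≤ n) (hv : Odd v) (h : v ∣ q ^ k - 1 ∨ v ∣ q ^ k + 1) : RealP (PSU n F q) v :=
  realP_quot_center hv (realP_su hF h2 hk hkn hv h)

end SU

/-! ### prime powers and primitive primes -/

section Pow

theorem dvd_iff_of_prime_pow {q k r a : ℕ} (hr : r.Prime) (hr2 : r ≠ 2) (hq : 1 ≤ q) :
    r ^ a ∣ q ^ (2 * k) - 1 ↔ r ^ a ∣ q ^ k - 1 ∨ r ^ a ∣ q ^ k + 1 := by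
  have h1 : q ^ (2 * k) - 1 = (q ^ k + 1) * (q ^ k - 1) := by
    have := Nat.sq_sub_sq (q ^ k) 1
    rw [one_pow] at this
    rw [← this, mul_comm 2 k, pow_mul]
  have hqk : 1 ≤ q ^ k := Nat.one_le_pow _ _ hq
  rw [h1]
  constructor
  · intro h
    by_cases h3 : r ∣ q ^ k + 1
    · right
      have h4 : ¬ r ∣ q ^ k - 1 := by
        intro h4
        have h5 := (Nat.dvd_add_right h4).1 (by rwa [show q ^ k - 1 + 2 = q ^ k + 1 by omega])
        exact hr2 ((Nat.prime_dvd_prime_iff_eq hr Nat.prime_two).1 h5)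
      exact (Nat.Coprime.pow_left a ((Nat.Prime.coprime_iff_not_dvd hr).2 h4)).dvd_of_dvd_mul_right h
    · left
      exact (Nat.Coprime.pow_left a ((Nat.Prime.coprime_iff_not_dvd hr).2 h3)).dvd_of_dvd_mul_left h
  · rintro (h | h)
    · exact h.mul_left _
    · exact h.mul_right _

theorem odd_prime_pow {r a : ℕ} (hr : r.Prime) (hr2 : r ≠ 2) : Odd (r ^ a) := (hr.odd_of_ne_two hr2).pow

theorem exists_half {q e r a n : ℕ} (hr : r.Prime) (hr2 : r ≠ 2) (hq : 1 ≤ q) (he : 1 ≤ e)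
    (h : Even e ∧ e ≤ n ∨ 2 * e ≤ n) (hd : r ^ a ∣ q ^ e - 1) :
    ∃ k, 1 ≤ k ∧ 2 * k ≤ n ∧ (r ^ a ∣ q ^ k - 1 ∨ r ^ a ∣ q ^ k + 1) := by
  rcases h with ⟨⟨k, hk⟩, hn⟩ | hn
  · have h3 : e = 2 * k := by omega
    subst h3
    exact ⟨k, by omega, by omega, (dvd_iff_of_prime_pow hr hr2 hq).1 hd⟩
  · exact ⟨e, he, hn, Or.inl hd⟩

variable {F : Type*} [Field F] [Fintype F]

/-- `r` an odd prime, `r ^ a ∣ q ^ e - 1`, `e` even and `e ≤ 2 m`, or `e ≤ m` -/
theorem realP_psp_pow (h2 : (2 : F) ≠ 0) {m e r a : ℕ} (hr : r.Prime) (hr2 : r ≠ 2) (he : 1 ≤ e)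
    (h : Even e ∧ e ≤ 2 * m ∨ e ≤ m) (hd : r ^ a ∣ Fintype.card F ^ e - 1) : RealP (PSp m F) (r ^ a) := by
  obtain ⟨k, hk, hkn, h3⟩ := exists_half (n := 2 * m) hr hr2 Fintype.card_pos he
    (h.imp id (fun h => by omega)) hd
  exact realP_psp h2 hk (by omega) (odd_prime_pow hr hr2) h3

/-- `r` an odd prime, `r ^ a ∣ q ^ e - 1`, `e` even and `e ≤ n`, or `2 e ≤ n` -/
theorem realP_psl_pow (h2 : (2 : F) ≠ 0) {n e r a : ℕ} (hr : r.Prime) (hr2 : r ≠ 2) (he : 1 ≤ e)
    (h : Even e ∧ e ≤ n ∨ 2 * e ≤ n) (hd : r ^ a ∣ Fintype.card F ^ e - 1) :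
    RealP (ProjectiveSpecialLinearGroup (Fin n) F) (r ^ a) := by
  obtain ⟨k, hk, hkn, h3⟩ := exists_half hr hr2 Fintype.card_pos he h hd
  exact realP_psl h2 hk hkn (odd_prime_pow hr hr2) h3

/-- `r` an odd prime, `r ^ a ∣ q ^ e - 1`, `e` even and `e ≤ n`, or `2 e ≤ n` -/
theorem realP_psu_pow {q : ℕ} (hF : Fintype.card F = q ^ 2) (h2 : (2 : F) ≠ 0) {n e r a : ℕ} (hr : r.Prime)
    (hr2 : r ≠ 2) (he : 1 ≤ e) (h : Even e ∧ e ≤ n ∨ 2 * e ≤ n) (hd : r ^ a ∣ q ^ e - 1) :
    RealP (PSU n F q) (r ^ a) := by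
  have hq := ClassicalGeometry.GUBasic.two_le hF
  obtain ⟨k, hk, hkn, h3⟩ := exists_half hr hr2 (by omega) he h hd
  exact realP_psu hF h2 hk hkn (odd_prime_pow hr hr2) h3

theorem dvd_of_ord {q r e : ℕ} (hq : 1 ≤ q) (he : orderOf ((q : ℕ) : ZMod r) = e) : r ^ 1 ∣ q ^ e - 1 := by
  rw [pow_one]
  exact (Cfsg.Agent.Lib.Zsigmondy.dvd_pow_sub_one_iff hq e).2 (by rw [he])

/-- `r` an odd prime, `e` the order of `q` modulo `r` -/
theorem realP_psp_ord (h2 : (2 : F) ≠ 0) {m e r : ℕ} (hr : r.Prime) (hr2 : r ≠ 2)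
    (he : orderOf ((Fintype.card F : ℕ) : ZMod r) = e) (he1 : 1 ≤ e) (h : Even e ∧ e ≤ 2 * m ∨ e ≤ m) :
    RealP (PSp m F) r := by
  have := realP_psp_pow (a := 1) h2 hr hr2 he1 h (dvd_of_ord Fintype.card_pos he)
  rwa [pow_one] at this

theorem realP_psl_ord (h2 : (2 : F) ≠ 0) {n e r : ℕ} (hr : r.Prime) (hr2 : r ≠ 2)
    (he : orderOf ((Fintype.card F : ℕ) : ZMod r) = e) (he1 : 1 ≤ e) (h : Even e ∧ e ≤ n ∨ 2 * e ≤ n) :
    RealP (ProjectiveSpecialLinearGroup (Fin n) F) r := by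
  have := realP_psl_pow (a := 1) h2 hr hr2 he1 h (dvd_of_ord Fintype.card_pos he)
  rwa [pow_one] at this

theorem realP_psu_ord {q : ℕ} (hF : Fintype.card F = q ^ 2) (h2 : (2 : F) ≠ 0) {n e r : ℕ} (hr : r.Prime)
    (hr2 : r ≠ 2) (he : orderOf ((q : ℕ) : ZMod r) = e) (he1 : 1 ≤ e) (h : Even e ∧ e ≤ n ∨ 2 * e ≤ n) :
    RealP (PSU n F q) r := by
  have hq := ClassicalGeometry.GUBasic.two_le hF
  have := realP_psu_pow (a := 1) hF h2 hr hr2 he1 h (dvd_of_ord (by omega) he)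
  rwa [pow_one] at this

end Pow

end Cfsg.Agent.H453.OddM
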