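import Cfsg.Agent.H660.OddM.DoNum
import Cfsg.Agent.H660.OddM.RealLin
import Cfsg.Agent.H453.OddM.RealOrth
import Cfsg.Agent.H264.FKS.Char
import Cfsg.Agent.H264.FKS.ResCore

/-!
# Characteristic `p` socles of the subgroups of `PΩ^±_{2n}(q)` covering the real classes, `n ≥ 5` odd, `q` odd
(TEAM ODDM, S4785, DO-CHARP)

`charp_plus`, `charp_minus`: the socle is `PSp_{2n-2}(q)` or `Ω_{2n-1}(q)`.
-/

set_option autoImplicit false

namespace Cfsg.Agent.H660.OddM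

open Cfsg Cfsg.Agent.OrdDiv Cfsg.Agent.H436 Cfsg.Agent.H915.GN Cfsg.Agent.H264.GN Cfsg.Agent.H264.FKS
  Cfsg.Agent.H453.OddM

universe u

variable {p f n : ℕ} {g : Grp} {T : Type u} [Group T] [Finite T] {R : Subgroup T}

/-! ### real primes -/

theorem dvd_or_of_prim {q k s : ℕ} (hs : Prim q (2 * k) s) : s ∣ q ^ k - 1 ∨ s ∣ q ^ k + 1 := by
  have h1 : s ∣ q ^ (2 * k) - 1 := hs.dvd dvd_rfl
  have h2 : q ^ (2 * k) - 1 = (q ^ k + 1) * (q ^ k - 1) := by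
    rw [mul_comm 2 k, pow_mul]
    have := Nat.sq_sub_sq (q ^ k) 1
    rwa [one_pow] at this
  rw [h2] at h1
  exact (hs.prime.dvd_mul.1 h1).symm

theorem odd_pow_of (hp : p.Prime) (hp2 : p ≠ 2) : Odd (p ^ f) := (hp.odd_of_ne_two hp2).pow

theorem realP_plus (hT : IsNamed (.oplus n (p ^ f)) T) (hp : p.Prime) (hp2 : p ≠ 2) (hn : 3 ≤ n) {d v : ℕ}
    (hd : d ≠ 0) (hdn : d < n) (hv : Odd v) (h : v ∣ (p ^ f) ^ d - 1 ∨ v ∣ (p ^ f) ^ d + 1) : RealP T v := by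
  obtain ⟨F, _, _, hF, ⟨e⟩⟩ := hT.real
  have h2 : (2 : F) ≠ 0 := two_ne_zero_of_odd (by rw [hF]; exact odd_pow_of hp hp2)
  rw [← hF] at h
  exact realP_of_injective e.symm.toMonoidHom e.symm.injective (realP_oplus h2 hn hd hdn hv h)

theorem realP_minus (hT : IsNamed (.ominus n (p ^ f)) T) (hp : p.Prime) (hp2 : p ≠ 2) (hn : 3 ≤ n) {d v : ℕ}
    (hd : d ≠ 0) (hdn : d < n) (hv : Odd v) (h : v ∣ (p ^ f) ^ d - 1 ∨ v ∣ (p ^ f) ^ d + 1) : RealP T v := by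
  obtain ⟨F, _, _, a, b, hF, hab, ⟨e⟩⟩ := hT.real
  have h2 : (2 : F) ≠ 0 := two_ne_zero_of_odd (by rw [hF]; exact odd_pow_of hp hp2)
  rw [← hF] at h
  exact realP_of_injective e.symm.toMonoidHom e.symm.injective (realP_ominus h2 hab hn hd hdn hv h)

/-- the hypothesis of the numerics -/
theorem hs_of (hreal : ∀ d v : ℕ, d ≠ 0 → d < n → Odd v → (v ∣ (p ^ f) ^ d - 1 ∨ v ∣ (p ^ f) ^ d + 1) → RealP T v)
    (hp : p.Prime) (hcov : Cov T R) (S : Subgroup R) [S.Normal] [IsSimpleGroup S] (hna : ¬ IsMulCommutative S)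
    (hC : Subgroup.centralizer (S : Set R) = ⊥) (hS : IsNamed g S) (hch : HasChar p g) {k : ℕ} (hk : 2 ≤ k)
    (hkn : k < n) : HS p f (2 * k) g (Nat.card S) :=
  HS.of S hna hC hp hS hch (by omega) fun s hs => hcov.dvd (hreal k s (by omega) hkn (by
    have h1 := five_le_of_prim (by omega) hs
    exact hs.prime.odd_of_ne_two (by omega)) (dvd_or_of_prim hs))

/-! ### the `2`-part -/

theorem prB_pos {q m : ℕ} (hq : 2 ≤ q) : prB q m ≠ 0 := by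
  rw [prB_eq, Finset.prod_ne_zero_iff]
  intro i _
  have : 1 < q ^ (2 * (i + 1)) := Nat.one_lt_pow (by omega) (by omega)
  omega

theorem dvd_aut_of_cov (hcov : Cov T R) (S : Subgroup R) [S.Normal]
    (hC : Subgroup.centralizer (S : Set R) = ⊥) {k : ℕ} (h : 2 ^ k ∣ Nat.card T) :
    2 ^ k ∣ Nat.card (MulAut S) :=
  (hcov.two_part.1 h).trans (dvd_aut S hC)

theorem not_psl (hp : p.Prime) (hp2 : p ≠ 2) (hf : 1 ≤ f) (hn : 5 ≤ n)
    (hB : prB (p ^ f) (n - 1) ∣ Nat.card T) (hcov : Cov T R) (S : Subgroup R) [S.Normal]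
    (hC : Subgroup.centralizer (S : Set R) = ⊥) (hS : IsNamed (.psl (n - 1) (p ^ (2 * f))) S) : False := by
  have := Fact.mk hp
  have hpo : p % 2 = 1 := Nat.odd_iff.1 (hp.odd_of_ne_two hp2)
  obtain ⟨F, _, _, hF, ⟨e⟩⟩ := hS.real
  have h1 := Cfsg.Agent.S0813.result p (2 * f) (by omega) hF (n - 1) (by omega) (fun h => by omega)
  rw [H364.OutLie.card_pgl (by omega), if_neg (by omega), hF] at h1
  have h2 : Nat.card (MulAut S) = 2 * (2 * f) * (Nat.gcd (n - 1) (p ^ (2 * f) - 1) * Nat.card S) := by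
    rw [H364.OutLie.mulaut_congr e, h1, Nat.card_congr e.toEquiv]
  have h3 : Nat.gcd (n - 1) (p ^ (2 * f) - 1) * (p ^ (2 * f) - 1) * Nat.card S = glN (n - 1) (p ^ (2 * f)) := hS.eq
  have hQ : p ^ (2 * f) = (p ^ f) ^ 2 := by rw [← pow_mul, mul_comm]
  have h4 : glN (n - 1) (p ^ (2 * f)) = (p ^ f) ^ (2 * ((n - 1) * (n - 1 - 1) / 2)) * prB (p ^ f) (n - 1) := by
    rw [glN_eq, hQ, prB_eq, ← pow_mul]
    congr 1
    refine Finset.prod_congr rfl fun i _ => ?_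
    rw [← pow_mul]
  refine two_psl (q := p ^ f) (N := 2 * ((n - 1) * (n - 1 - 1) / 2)) (f := f) (A := Nat.card (MulAut S))
    (B := prB (p ^ f) (n - 1)) (odd_pow' hpo) (by omega)
    (prB_pos ((hp.two_le).trans (Nat.le_self_pow (by omega) _))) ?_ ?_ ?_
  · rintro j f' rfl
    exact pow_eight hpo
  · rw [h2, ← hQ, ← h4, ← h3]
    ring
  · intro k hk
    exact dvd_aut_of_cov hcov S hC (hk.trans hB)

theorem not_ominus (hp : p.Prime) (hp2 : p ≠ 2) (hf : 1 ≤ f) (hn : 5 ≤ n) (hno : n % 2 = 1)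
    (hB : prB (p ^ f) (n - 1) ∣ Nat.card T) (hcov : Cov T R) (S : Subgroup R) [S.Normal]
    (hC : Subgroup.centralizer (S : Set R) = ⊥) (hS : IsNamed (.ominus (n - 1) (p ^ f)) S) : False := by
  have := Fact.mk hp
  have hpo : p % 2 = 1 := Nat.odd_iff.1 (hp.odd_of_ne_two hp2)
  obtain ⟨F, _, _, a, b, hF, hab, ⟨e⟩⟩ := hS.real
  have h1 := Cfsg.Agent.S0818.result p f hf hF (n - 1) hS.cond.1 a b hab
  have hqo : (p ^ f) % 2 = 1 := odd_pow' hpo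
  have hev : Even ((n - 1) * (p ^ f - 1) / 2) := by
    obtain ⟨k, hk⟩ : ∃ k, n - 1 = 2 * k := ⟨(n - 1) / 2, by omega⟩
    obtain ⟨l, hl⟩ : ∃ l, p ^ f - 1 = 2 * l := ⟨(p ^ f - 1) / 2, by omega⟩
    rw [hk, mul_assoc, Nat.mul_div_cancel_left _ (by norm_num), hl]
    exact ⟨k * l, by ring⟩
  rw [if_neg hp2, if_pos hev] at h1
  have h2 : Nat.card (MulAut S) = 4 * f * Nat.card S := by
    rw [H364.OutLie.mulaut_congr e, h1, Nat.card_congr e.toEquiv]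
  have h3 : Nat.gcd 4 ((p ^ f) ^ (n - 1) + 1) * Nat.card S =
    (p ^ f) ^ ((n - 1) * (n - 1 - 1)) * (((p ^ f) ^ (n - 1) + 1) * prB (p ^ f) (n - 1 - 1)) := hS.eq
  -- `q ^ (n - 1) + 1 = 2 u`, `u` odd
  obtain ⟨u, hu, huo⟩ : ∃ u, (p ^ f) ^ (n - 1) + 1 = 2 * u ∧ u % 2 = 1 := by
    obtain ⟨k, hk⟩ : ∃ k, n - 1 = k * 2 := ⟨(n - 1) / 2, by omega⟩
    obtain ⟨l, hl⟩ : ∃ l, (p ^ f) ^ k = 2 * l + 1 := ⟨(p ^ f) ^ k / 2, by
      have : ((p ^ f) ^ k) % 2 = 1 := odd_pow' hqo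
      omega⟩
    refine ⟨2 * (l ^ 2 + l) + 1, ?_, by omega⟩
    rw [hk, pow_mul, hl]
    ring
  have hg : Nat.gcd 4 ((p ^ f) ^ (n - 1) + 1) = 2 := by
    rw [hu, show (4 : ℕ) = 2 * 2 by norm_num, Nat.gcd_mul_left]
    have : Nat.gcd 2 u = 1 := Nat.coprime_two_left.2 (Nat.odd_iff.2 huo)
    rw [this]
  rw [hg, hu] at h3
  have hprod : prB (p ^ f) (n - 1) = prB (p ^ f) (n - 1 - 1) * ((p ^ f) ^ (2 * (n - 1)) - 1) := by
    obtain ⟨k, hk⟩ : ∃ k, n - 1 = k + 1 := ⟨n - 2, by omega⟩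
    rw [hk, Nat.add_sub_cancel, prB_eq, prB_eq, Finset.prod_range_succ]
  refine two_ominus (q := p ^ f) (N := (n - 1) * (n - 1 - 1)) (f := f) (A := Nat.card (MulAut S))
    (B := prB (p ^ f) (n - 1 - 1)) (C := (p ^ f) ^ (2 * (n - 1)) - 1) (u := u) hqo huo (by omega)
    (prB_pos ((hp.two_le).trans (Nat.le_self_pow (by omega) _))) ?_ ?_ ?_
  · rintro j f' rfl
    refine (pow_eight hpo (j := j) (f' := f')).trans ?_
    rw [pow_mul (p ^ (2 ^ j * f')) 2]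
    exact Nat.sub_one_dvd_pow_sub_one _ _
  · rw [h2, show 4 * f * Nat.card S = 2 * f * (2 * Nat.card S) by ring, h3]
  · intro k hk
    rw [← hprod] at hk
    exact dvd_aut_of_cov hcov S hC (hk.trans hB)

theorem prB_dvd_of {D N a B c : ℕ} (h : D * c = N * (a * B)) (hD : D ∣ a) (hD0 : D ≠ 0) : B ∣ c := by
  obtain ⟨k, rfl⟩ := hD
  refine ⟨N * k, ?_⟩
  apply Nat.eq_of_mul_eq_mul_left (Nat.pos_of_ne_zero hD0)
  rw [h]
  ring

omit [Finite T] in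
theorem card_dvd_num {gT : Grp} (hT : IsNamed gT T) (S : Subgroup R) : Nat.card S ∣ num gT :=
  H264.FKS.IsNamed.card_dvd hT S

/-- **`PΩ⁺_{2n}(q)`, `n ≥ 5` odd, `q` odd: the socle in characteristic `p`.** -/
theorem charp_plus (hT : IsNamed (.oplus n (p ^ f)) T) (hp : p.Prime) (hp2 : p ≠ 2) (hf : 1 ≤ f) (hn : 5 ≤ n)
    (hno : n % 2 = 1) (hR : R ≠ ⊤) (hcov : Cov T R) (S : Subgroup R) [S.Normal] [IsSimpleGroup S]
    (hna : ¬ IsMulCommutative S) (hC : Subgroup.centralizer (S : Set R) = ⊥) (hS : IsNamed g S)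
    (hch : HasChar p g) : g = .psp (n - 1) (p ^ f) ∨ g = .oodd (n - 1) (p ^ f) := by
  have hreal := fun d v hd hdn hv h => realP_plus (d := d) (v := v) hT hp hp2 (by omega) hd hdn hv h
  have hTe : Nat.gcd 4 ((p ^ f) ^ n - 1) * Nat.card T =
    (p ^ f) ^ (n * (n - 1)) * (((p ^ f) ^ n - 1) * prB (p ^ f) (n - 1)) := hT.eq
  have hB : prB (p ^ f) (n - 1) ∣ Nat.card T :=
    prB_dvd_of hTe (Nat.gcd_dvd_right _ _) (Nat.gcd_pos_of_pos_left _ (by norm_num)).ne'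
  rcases charp_do_plus hp hp2 hf hn hS.cond hch hS.eq (card_dvd_num hT S)
      (hs_of hreal hp hcov S hna hC hS hch (by omega) (by omega))
      (hs_of hreal hp hcov S hna hC hS hch (by omega) (by omega)) with rfl | h | h | rfl | rfl
  · exact (not_psl hp hp2 hf hn hB hcov S hC hS).elim
  · exact Or.inl h
  · exact Or.inr h
  · exact (not_ominus hp hp2 hf hn hno hB hcov S hC hS).elim
  · exact absurd (eq_top_of_name hT hS) hR

/-- **`PΩ⁻_{2n}(q)`, `n ≥ 5` odd, `q` odd: the socle in characteristic `p`.** -/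
theorem charp_minus (hT : IsNamed (.ominus n (p ^ f)) T) (hp : p.Prime) (hp2 : p ≠ 2) (hf : 1 ≤ f) (hn : 5 ≤ n)
    (hno : n % 2 = 1) (hR : R ≠ ⊤) (hcov : Cov T R) (S : Subgroup R) [S.Normal] [IsSimpleGroup S]
    (hna : ¬ IsMulCommutative S) (hC : Subgroup.centralizer (S : Set R) = ⊥) (hS : IsNamed g S)
    (hch : HasChar p g) : g = .psp (n - 1) (p ^ f) ∨ g = .oodd (n - 1) (p ^ f) := by
  have hreal := fun d v hd hdn hv h => realP_minus (d := d) (v := v) hT hp hp2 (by omega) hd hdn hv h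
  have hTe : Nat.gcd 4 ((p ^ f) ^ n + 1) * Nat.card T =
    (p ^ f) ^ (n * (n - 1)) * (((p ^ f) ^ n + 1) * prB (p ^ f) (n - 1)) := hT.eq
  have hB : prB (p ^ f) (n - 1) ∣ Nat.card T :=
    prB_dvd_of hTe (Nat.gcd_dvd_right _ _) (Nat.gcd_pos_of_pos_left _ (by norm_num)).ne'
  rcases charp_do_minus hp hp2 hf hn hno hS.cond hch hS.eq (card_dvd_num hT S)
      (hs_of hreal hp hcov S hna hC hS hch (by omega) (by omega))
      (hs_of hreal hp hcov S hna hC hS hch (by omega) (by omega)) with ⟨rfl | h | h | rfl | h, h'⟩ | rfl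
  · exact (not_psl hp hp2 hf hn hB hcov S hC hS).elim
  · exact Or.inl h
  · exact Or.inr h
  · exact (not_ominus hp hp2 hf hn hno hB hcov S hC hS).elim
  · exact absurd h h'
  · exact absurd (eq_top_of_name hT hS) hR

end Cfsg.Agent.H660.OddM
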