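import Cfsg.Agent.H264.FKS.Final

/-!
# Characteristic `p` socles of subgroups of `PΩ^±_{2n}(q)`, `n` odd, `q` odd: numerics (TEAM ODDM, S4785, DO-CHARP)

`S` simple of Lie type in characteristic `p`, `|S|` divides `|PΩ^±_{2n}(q)|`, `n ≥ 5` odd, and `|S|` is divisible by the
primitive primes of `q^(2(n-1)) - 1` and `q^(2(n-2)) - 1`:  `S = PSL_{n-1}(q²)`, `PSp_{2n-2}(q)`, `Ω_{2n-1}(q)`,
`PΩ^-_{2n-2}(q)` or the whole group. The first and the fourth are excluded by the `2`-part.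
-/

set_option autoImplicit false

namespace Cfsg.Agent.H660.OddM

open Cfsg.Agent.OrdDiv Cfsg.Agent.H436 Cfsg.Agent.H915.GN Cfsg.Agent.H264.GN Cfsg.Agent.H264.FKS

variable {p f c : ℕ} {g : Grp}

/-- The comparison of the exponents (`comp` without upper data). -/
theorem comp2 (hp : p.Prime) (hf : 1 ≤ f) {f₁ : ℕ} (hf₁ : 1 ≤ f₁) {X Y : ℕ → Prop} {MT aT M a : ℕ}
    (hK : KD p f₁ c X Y M a) (hfM : f₁ * M = f * MT) (hpp : f₁ * a ≤ f * aT) :
    a * MT ≤ aT * M ∧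
      (∀ xT, 3 ≤ f * xT → ¬ (p = 2 ∧ f * xT = 6) → (∀ s, Prim p (f * xT) s → s ∣ c) →
        ∃ x, X x ∧ xT * M ∣ MT * x) := by
  refine ⟨?_, fun xT h3' h6' hs2 => ?_⟩
  · have h4 : f * (a * MT) ≤ f * (aT * M) := by
      calc f * (a * MT) = (f * MT) * a := by ring
        _ = (f₁ * M) * a := by rw [hfM]
        _ = (f₁ * a) * M := by ring
        _ ≤ (f * aT) * M := Nat.mul_le_mul_right _ hpp
        _ = f * (aT * M) := by ring
    exact Nat.le_of_mul_le_mul_left h4 (by omega)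
  · obtain ⟨s, hs'⟩ := exists_prim hp.two_le h3' h6'
    obtain ⟨x, hx, k, hk⟩ := hK.exp hs' (hs2 s hs')
    refine ⟨x, hx, ?_⟩
    refine Nat.dvd_of_mul_dvd_mul_left (show 0 < f by omega) ⟨k, ?_⟩
    calc f * (MT * x) = (f * MT) * x := by ring
      _ = (f₁ * M) * x := by rw [hfM]
      _ = (f₁ * x) * M := by ring
      _ = f * xT * k * M := by rw [hk]
      _ = f * (xT * M) * k := by ring

/-- the survivors -/
def Surv (n p f : ℕ) (g : Grp) : Prop :=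
  g = .psl (n - 1) (p ^ (2 * f)) ∨ g = .psp (n - 1) (p ^ f) ∨ g = .oodd (n - 1) (p ^ f) ∨
    g = .ominus (n - 1) (p ^ f) ∨ g = .oplus n (p ^ f)

/-- the case `f₁ M = 2 (n-1) f` -/
theorem case_a (hp : p.Prime) (hp2 : p ≠ 2) (hf : 1 ≤ f) {n : ℕ} (hn : 5 ≤ n) (hg : Cond g) (hch : HasChar p g)
    {f₁ : ℕ} (hf₁ : 1 ≤ f₁) (hfl : fld g = p ^ f₁) {Y : ℕ → Prop} (hK : KD p f₁ c (Xg g) Y (Mg g) (ag g))
    (h1 : f₁ * Mg g = f * (2 * (n - 1))) (hpp : f₁ * ag g ≤ f * (n * (n - 1))) (hs2 : HS p f (2 * (n - 2)) g c) :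
    Surv n p f g := by
  have hM2 := two_le_Mg hg hch
  have hfn' : 1 * (2 * (n - 2)) ≤ f * (2 * (n - 2)) := Nat.mul_le_mul_right _ hf
  obtain ⟨h2, h3⟩ := comp2 hp hf hf₁ hK h1 hpp
  have hA : 2 * ag g ≤ n * Mg g := by
    have h5 : (n - 1) * (2 * ag g) ≤ (n - 1) * (n * Mg g) := by
      calc (n - 1) * (2 * ag g) = ag g * (2 * (n - 1)) := by ring
        _ ≤ n * (n - 1) * Mg g := h2
        _ = (n - 1) * (n * Mg g) := by ring
    exact Nat.le_of_mul_le_mul_left h5 (by omega)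
  have hO := caseA (N := n - 1) (ρ := n) (by omega) (by omega) hg hch hA (fun x hx => hK.le hx) (by
    obtain ⟨x, hx, hx2⟩ := h3 (2 * (n - 2)) (by omega) (fun h => hp2 h.1)
      fun s hs => hs2.big hp hf hfl (f1_le' hM2 h1 (by omega)) hs
    refine ⟨x, hx, ?_⟩
    rw [mul_assoc, mul_assoc] at hx2
    have h4 := Nat.dvd_of_mul_dvd_mul_left (by norm_num) hx2
    rwa [show n - 2 = n - 1 - 1 by omega] at h4)
  unfold Surv
  cases g
  case psl m q =>
    obtain rfl : m = n - 1 := hO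
    have hq : q = p ^ f₁ := hfl
    have h5 : f₁ * (n - 1) = f * (2 * (n - 1)) := h1
    have h6 : f₁ = 2 * f := Nat.eq_of_mul_eq_mul_right (show 0 < n - 1 by omega) (by rw [h5]; ring)
    exact Or.inl (by rw [hq, h6])
  case psp m q =>
    obtain ⟨rfl, -⟩ : m = n - 1 ∧ n - 1 ≤ n := hO
    have hq : q = p ^ f₁ := hfl
    have h5 : f₁ * (2 * (n - 1)) = f * (2 * (n - 1)) := h1
    exact Or.inr (Or.inl (by rw [hq, Nat.eq_of_mul_eq_mul_right (by omega) h5]))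
  case oodd m q =>
    obtain ⟨rfl, -⟩ : m = n - 1 ∧ n - 1 ≤ n := hO
    have hq : q = p ^ f₁ := hfl
    have h5 : f₁ * (2 * (n - 1)) = f * (2 * (n - 1)) := h1
    exact Or.inr (Or.inr (Or.inl (by rw [hq, Nat.eq_of_mul_eq_mul_right (by omega) h5])))
  case psu m q =>
    exfalso
    obtain ⟨rfl, h6⟩ : m = 4 ∧ n - 1 = 3 := hO
    omega
  case oplus m q =>
    obtain ⟨h5, -⟩ : m = n - 1 + 1 ∧ n = n - 1 + 1 := hO
    obtain rfl : m = n := by omega
    have hq : q = p ^ f₁ := hfl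
    have h5 : f₁ * (2 * (m - 1)) = f * (2 * (m - 1)) := h1
    exact Or.inr (Or.inr (Or.inr (Or.inr (by rw [hq, Nat.eq_of_mul_eq_mul_right (by omega) h5]))))
  case ominus m q =>
    obtain ⟨hm4, -⟩ := hg
    obtain ⟨rfl, -⟩ : m = n - 1 ∧ n - 1 - 1 ≤ n := hO
    have hq : q = p ^ f₁ := hfl
    have h5 : f₁ * (2 * (n - 1)) = f * (2 * (n - 1)) := h1
    exact Or.inr (Or.inr (Or.inr (Or.inl (by rw [hq, Nat.eq_of_mul_eq_mul_right (by omega) h5]))))
  case f4 q =>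
    exfalso
    obtain ⟨h5, h6⟩ : n - 1 = 3 ∧ n = 4 := hO
    omega
  case te6 q =>
    exfalso
    obtain ⟨h5, h6⟩ : n - 1 = 3 ∧ n = 4 := hO
    omega
  all_goals exact absurd hO not_false

/-- **`PΩ⁺_{2n}(q)`** -/
theorem charp_do_plus (hp : p.Prime) (hp2 : p ≠ 2) (hf : 1 ≤ f) {n : ℕ} (hn : 5 ≤ n) (hg : Cond g)
    (hch : HasChar p g) (hc : den g * c = num g)
    (hdvd : c ∣ (p ^ f) ^ (n * (n - 1)) * (((p ^ f) ^ n - 1) * prB (p ^ f) (n - 1)))
    (hs1 : HS p f (2 * (n - 1)) g c) (hs2 : HS p f (2 * (n - 2)) g c) : Surv n p f g := by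
  obtain ⟨f₁, hf₁, hfl, hK, hY⟩ := kd_all hp hg hch hc
  have hT := td_oplus hp hf (by omega) hdvd
  have hfn : 1 * (2 * (n - 1)) ≤ f * (2 * (n - 1)) := Nat.mul_le_mul_right _ hf
  have hM2 := two_le_Mg hg hch
  have hb := f1_le hp hf₁ hT hK hY hM2 (by omega)
  obtain ⟨h1, -⟩ := comp hp hf hf₁ hT hK (by omega) (fun h => hp2 h.1) (fun s hs => hs1.big hp hf hfl hb hs) hY
    (fun h => absurd h hp2)
  exact case_a hp hp2 hf hn hg hch hf₁ hfl hK h1 (hT.pp hK.pp) hs2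

theorem not_dvd_den_oplus {q n s k : ℕ} (h5 : 5 ≤ s) : ¬ s ∣ Nat.gcd 4 (q ^ n - k) := fun h => by
  have := Nat.le_of_dvd (by norm_num) (h.trans (Nat.gcd_dvd_left _ _))
  omega

/-- **`PΩ⁻_{2n}(q)`, `n` odd** -/
theorem charp_do_minus (hp : p.Prime) (hp2 : p ≠ 2) (hf : 1 ≤ f) {n : ℕ} (hn : 5 ≤ n) (hno : n % 2 = 1) (hg : Cond g)
    (hch : HasChar p g) (hc : den g * c = num g)
    (hdvd : c ∣ (p ^ f) ^ (n * (n - 1)) * (((p ^ f) ^ n + 1) * prB (p ^ f) (n - 1)))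
    (hs1 : HS p f (2 * (n - 1)) g c) (hs2 : HS p f (2 * (n - 2)) g c) :
    (Surv n p f g ∧ g ≠ .oplus n (p ^ f)) ∨ g = .ominus n (p ^ f) := by
  obtain ⟨f₁, hf₁, hfl, hK, hY⟩ := kd_all hp hg hch hc
  have hT := td_ominus hp hf (by omega) hdvd
  have hfn : 1 * (2 * (n - 1)) ≤ f * (2 * (n - 1)) := Nat.mul_le_mul_right _ hf
  have hfn1 : f * 5 ≤ f * n := Nat.mul_le_mul_left _ hn
  have hM2 := two_le_Mg hg hch
  have e1 : f * (2 * n) = 2 * (f * n) := by ring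
  have e2 : f * (2 * (n - 1)) + 2 * f = 2 * (f * n) := by
    obtain ⟨k, rfl⟩ : ∃ k, n = k + 1 := ⟨n - 1, by omega⟩
    rw [Nat.add_sub_cancel]; ring
  -- `f₁ ≤ f n`
  have hb : f₁ ≤ f * n := by
    rcases Nat.lt_or_ge (f₁ * Mg g) 3 with h3 | h3
    · have : f₁ * 2 ≤ f₁ * Mg g := Nat.mul_le_mul_left _ hM2
      omega
    · obtain ⟨t, ht⟩ := exists_prim hp.two_le h3 (fun h => hp2 h.1)
      obtain ⟨i, hi, hi2⟩ := hT.exp ht (hK.has hY h3 ht)
      have hi3 := hT.le hi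
      have h2 : f₁ * Mg g ≤ f * (2 * n) :=
        (Nat.le_of_dvd (Nat.mul_pos hf (by omega)) hi2).trans (Nat.mul_le_mul_left _ hi3.2)
      have : f₁ * 2 ≤ f₁ * Mg g := Nat.mul_le_mul_left _ hM2
      omega
  -- `2 (n - 1) f ≤ f₁ M`
  have h1 : f * (2 * (n - 1)) ≤ f₁ * Mg g := by
    obtain ⟨s, hs'⟩ := exists_prim hp.two_le (e := f * (2 * (n - 1))) (by omega) (fun h => hp2 h.1)
    obtain ⟨x, hx, hx2⟩ := hK.exp hs' (hs1.big hp hf hfl (by omega) hs')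
    have hx3 := hK.le hx
    exact (Nat.le_of_dvd (Nat.mul_pos (by omega) (by omega)) hx2).trans (Nat.mul_le_mul_left _ hx3.2)
  have h3 : 3 ≤ f₁ * Mg g := by omega
  obtain ⟨t, ht⟩ := exists_prim hp.two_le h3 (fun h => hp2 h.1)
  obtain ⟨i, ⟨hi1, hi2, hi3⟩, hi4⟩ := hT.exp ht (hK.has hY h3 ht)
  have hcase : f₁ * Mg g = f * (2 * (n - 1)) ∨ f₁ * Mg g = f * (2 * n) := by
    rcases Nat.lt_or_ge i (2 * n) with hi | hi
    · left
      have h4 : i ≤ 2 * (n - 1) := by omega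
      have h5 := (Nat.le_of_dvd (Nat.mul_pos (by omega) (by omega)) hi4).trans (Nat.mul_le_mul_left f h4)
      omega
    · right
      obtain rfl : i = 2 * n := by omega
      obtain ⟨k, hk⟩ := hi4
      rcases Nat.lt_or_ge k 2 with h5 | h5
      · interval_cases k
        · omega
        · rw [hk, mul_one]
      · exfalso
        have h6 : f₁ * Mg g * 2 ≤ f₁ * Mg g * k := Nat.mul_le_mul_left _ h5
        omega
  -- a prime of order `n` modulo `q`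
  obtain ⟨s, hs0⟩ := exists_prim hp.two_le (e := f * n) (by omega) (fun h => hp2 h.1)
  have hs := prim_pow hf hs0
  have hs5 : 5 ≤ s := five_le_of_prim (by omega) hs
  have hsc : ¬ s ∣ c := fun h => not_dvd_ominus_odd hs hno (by omega) (h.trans hdvd)
  rcases hcase with h4 | h4
  · left
    refine ⟨case_a hp hp2 hf hn hg hch hf₁ hfl hK h4 (hT.pp hK.pp) hs2, ?_⟩
    rintro rfl
    have h5 : Nat.gcd 4 ((p ^ f) ^ n - 1) * c =
      (p ^ f) ^ (n * (n - 1)) * (((p ^ f) ^ n - 1) * prB (p ^ f) (n - 1)) := hc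
    have h6 : s ∣ Nat.gcd 4 ((p ^ f) ^ n - 1) * c := by
      rw [h5]
      exact ((hs.dvd dvd_rfl).mul_right _).mul_left _
    rcases hs.prime.dvd_mul.1 h6 with h7 | h7
    · exact not_dvd_den_oplus hs5 h7
    · exact hsc h7
  · obtain ⟨-, h2, h3', -⟩ := comp hp hf hf₁ hT hK (by omega) (fun h => hp2 h.1)
      (fun s hs => hK.has hY h3 (by rw [h4]; exact hs)) hY (fun h => absurd h hp2)
    have hA : 2 * ag g ≤ (n - 1) * Mg g := by
      have h5 : n * (2 * ag g) ≤ n * ((n - 1) * Mg g) := by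
        calc n * (2 * ag g) = ag g * (2 * n) := by ring
          _ ≤ n * (n - 1) * Mg g := h2
          _ = n * ((n - 1) * Mg g) := by ring
      exact Nat.le_of_mul_le_mul_left h5 (by omega)
    have hO := caseA (N := n) (ρ := n - 1) (by omega) (by omega) hg hch hA (fun x hx => hK.le hx) (by
      obtain ⟨x, hx, hx2⟩ := h3' (2 * (n - 1)) (by omega) (fun h => hp2 h.1)
        fun s hs => hs1.big hp hf hfl (by omega) hs
      refine ⟨x, hx, ?_⟩
      rw [mul_assoc, mul_assoc] at hx2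
      exact Nat.dvd_of_mul_dvd_mul_left (by norm_num) hx2)
    cases g
    case psl m q =>
      exfalso
      obtain rfl : m = n := hO
      have hq : q = p ^ f₁ := hfl
      have h5 : f₁ * m = f * (2 * m) := h4
      have h6 : f₁ = 2 * f := Nat.eq_of_mul_eq_mul_right (show 0 < m by omega) (by rw [h5]; ring)
      have hc' : Nat.gcd m (q - 1) * (q - 1) * c = glN m q := hc
      have hQ : q = (p ^ f) ^ 2 := by rw [hq, h6, ← pow_mul, mul_comm f 2]
      have h7 : s ∣ Nat.gcd m (q - 1) * (q - 1) * c := by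
        rw [hc', glN_eq]
        refine Dvd.dvd.mul_left ?_ _
        have h8 := Finset.dvd_prod_of_mem (fun j => q ^ (j + 1) - 1) (Finset.mem_range.2 (show m - 1 < m by omega))
        refine dvd_trans ?_ h8
        show s ∣ q ^ (m - 1 + 1) - 1
        rw [Nat.sub_add_cancel (by omega), hQ, ← pow_mul]
        exact hs.dvd (Dvd.intro_left _ rfl)
      have h8 : ¬ s ∣ q - 1 := by
        rw [hQ]
        intro h
        rw [hs.dvd_iff] at h
        have := Nat.le_of_dvd (by norm_num) h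
        omega
      rcases hs.prime.dvd_mul.1 h7 with h9 | h9
      · rcases hs.prime.dvd_mul.1 h9 with h9 | h9
        · exact h8 (h9.trans (Nat.gcd_dvd_right _ _))
        · exact h8 h9
      · exact hsc h9
    case psp m q =>
      exfalso
      obtain ⟨h5, h6⟩ : m = n ∧ n ≤ n - 1 := hO
      omega
    case oodd m q =>
      exfalso
      obtain ⟨h5, h6⟩ : m = n ∧ n ≤ n - 1 := hO
      omega
    case psu m q =>
      exfalso
      obtain ⟨h5, h6⟩ : m = 4 ∧ n = 3 := hO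
      omega
    case oplus m q =>
      exfalso
      obtain ⟨h5, h6⟩ : m = n + 1 ∧ n - 1 = n + 1 := hO
      omega
    case ominus m q =>
      obtain ⟨rfl, -⟩ : m = n ∧ n - 1 ≤ n - 1 := hO
      have hq : q = p ^ f₁ := hfl
      have h5 : f₁ * (2 * m) = f * (2 * m) := h4
      right
      rw [hq, Nat.eq_of_mul_eq_mul_right (by omega) h5]
    case f4 q =>
      exfalso
      obtain ⟨h5, h6⟩ : n = 3 ∧ n - 1 = 4 := hO
      omega
    case te6 q =>
      exfalso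
      obtain ⟨h5, h6⟩ : n = 3 ∧ n - 1 = 4 := hO
      omega
    all_goals exact absurd hO not_false

/-! ### the `2`-part -/

theorem pow_eight {q j f' : ℕ} (hq : q % 2 = 1) : 2 ^ (j + 3) ∣ (q ^ (2 ^ j * f')) ^ 2 - 1 := by
  induction j with
  | zero =>
    rw [zero_add, pow_zero, one_mul]
    have h1 : (q ^ f') % 2 = 1 := by
      rw [Nat.pow_mod, hq, one_pow]; rfl
    obtain ⟨k, hk⟩ : ∃ k, q ^ f' = 2 * k + 1 := ⟨q ^ f' / 2, by omega⟩
    rw [hk]
    have h2 : (2 * k + 1) ^ 2 - 1 = 4 * (k * (k + 1)) := by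
      have : (2 * k + 1) ^ 2 = 4 * (k * (k + 1)) + 1 := by ring
      omega
    rw [h2]
    obtain ⟨a, ha⟩ := Nat.even_mul_succ_self k
    rw [ha]
    exact ⟨a, by ring⟩
  | succ j ih =>
    have h1 : (q ^ (2 ^ (j + 1) * f')) ^ 2 - 1 = ((q ^ (2 ^ j * f')) ^ 2 + 1) * ((q ^ (2 ^ j * f')) ^ 2 - 1) := by
      have h2 : q ^ (2 ^ (j + 1) * f') = (q ^ (2 ^ j * f')) ^ 2 := by
        rw [← pow_mul]; congr 1; ring
      rw [h2]
      have := Nat.sq_sub_sq ((q ^ (2 ^ j * f')) ^ 2) 1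
      rwa [one_pow] at this
    rw [h1, show j + 1 + 3 = 1 + (j + 3) by ring, pow_add, pow_one]
    refine Nat.mul_dvd_mul ?_ ih
    have h3 : ((q ^ (2 ^ j * f')) ^ 2) % 2 = 1 := by
      rw [← pow_mul, Nat.pow_mod, hq, one_pow]; rfl
    omega

/-- decomposition of a positive number -/
theorem exists_two_pow {a : ℕ} (ha : a ≠ 0) : ∃ k o, a = 2 ^ k * o ∧ o % 2 = 1 := by
  obtain ⟨k, o, ho, h⟩ := Nat.exists_eq_two_pow_mul_odd ha
  exact ⟨k, o, h, Nat.odd_iff.1 ho⟩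

theorem odd_mul' {a b : ℕ} (ha : a % 2 = 1) (hb : b % 2 = 1) : a * b % 2 = 1 := by
  rw [Nat.mul_mod, ha, hb]

theorem odd_pow' {a k : ℕ} (ha : a % 2 = 1) : a ^ k % 2 = 1 := by
  rw [Nat.pow_mod, ha, one_pow]; rfl

/-- `2^a` does not divide `2^b o`, `o` odd, `b < a` -/
theorem not_two_dvd {a b o : ℕ} (ho : o % 2 = 1) (hab : b < a) : ¬ 2 ^ a ∣ 2 ^ b * o := by
  intro h
  have h1 : 2 ^ (b + 1) ∣ 2 ^ b * o := (pow_dvd_pow 2 (by omega)).trans h
  rw [pow_succ] at h1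
  have h2 := Nat.dvd_of_mul_dvd_mul_left (by positivity) h1
  omega

/-- the `2`-part argument for `PSL_{n-1}(q²)` -/
theorem two_psl {q N f A B : ℕ} (hq : q % 2 = 1) (hf : f ≠ 0) (hB : B ≠ 0)
    (h8 : ∀ j f', f = 2 ^ j * f' → 2 ^ (j + 3) ∣ q ^ 2 - 1)
    (hA : (q ^ 2 - 1) * A = 4 * f * (q ^ N * B)) (h : ∀ k, 2 ^ k ∣ B → 2 ^ k ∣ A) : False := by
  obtain ⟨j, f', rfl, hf'⟩ := exists_two_pow hf
  obtain ⟨k, o, rfl, ho⟩ := exists_two_pow hB
  obtain ⟨a, ha⟩ := h k (Dvd.intro _ rfl)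
  obtain ⟨b, hb⟩ := h8 j f' rfl
  rw [ha, hb] at hA
  refine not_two_dvd (a := j + 3 + k) (b := j + 2 + k) (o := f' * (q ^ N * o))
    (odd_mul' hf' (odd_mul' (odd_pow' hq) ho)) (by omega) ⟨a * b, ?_⟩
  calc 2 ^ (j + 2 + k) * (f' * (q ^ N * o)) = 4 * (2 ^ j * f') * (q ^ N * (2 ^ k * o)) := by ring
    _ = 2 ^ (j + 3) * b * (2 ^ k * a) := hA.symm
    _ = 2 ^ (j + 3 + k) * (a * b) := by ring

/-- the `2`-part argument for `PΩ⁻_{2n-2}(q)` -/
theorem two_ominus {q N f A B C u : ℕ} (hq : q % 2 = 1) (hu : u % 2 = 1) (hf : f ≠ 0) (hB : B ≠ 0)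
    (h8 : ∀ j f', f = 2 ^ j * f' → 2 ^ (j + 3) ∣ C)
    (hA : A = 2 * f * (q ^ N * (2 * u * B))) (h : ∀ k, 2 ^ k ∣ B * C → 2 ^ k ∣ A) : False := by
  obtain ⟨j, f', rfl, hf'⟩ := exists_two_pow hf
  obtain ⟨k, o, rfl, ho⟩ := exists_two_pow hB
  have h1 := h (k + (j + 3)) (by
    rw [pow_add]
    exact Nat.mul_dvd_mul (Dvd.intro _ rfl) (h8 j f' rfl))
  refine not_two_dvd (a := k + (j + 3)) (b := k + (j + 2)) (o := f' * (q ^ N * (u * o)))
    (odd_mul' hf' (odd_mul' (odd_pow' hq) (odd_mul' hu ho))) (by omega) ?_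
  rw [hA] at h1
  convert h1 using 1
  ring

end Cfsg.Agent.H660.OddM
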