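import Cfsg.Agent.H660.OddM.RowDo
import Cfsg.Agent.H144.Odm.CovRes
import Cfsg.Agent.H210.DoRes.Main

/-!
# S4785 (TEAM ODDM): the residual class in `PΩ^±_{2m}(q)`, `m` and `q` odd (helper660)
-/

set_option autoImplicit false

namespace Cfsg.Agent.H660.OddM

open Module Cfsg Cfsg.Geo Cfsg.Agent.OrdDiv Cfsg.Agent.H436 Cfsg.Agent.H453.OddM Cfsg.Agent.H884.El

universe u

theorem resP (tab : OrderTable.{0}) (hK : ∀ (X : Type) [Group X] [Finite X] [IsSimpleGroup X], IsKnownSimple' X)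
    {m : ℕ} (hm : 5 ≤ m) (ho : Odd m) : ResP m := by
  intro F _ _ hodd M hM hc P hP
  obtain ⟨S, _, ⟨e⟩, hS⟩ := Cfsg.Agent.H144.Odm.res_plus tab hK hm (Nat.odd_iff.1 ho) hodd hM hc hP
  exact Cfsg.Agent.H210.DoRes.do_res (two_ne hodd) hP (n := m - 1) (q := Fintype.card F) (by omega)
    (fun h => by rw [Nat.odd_iff] at hodd; omega) (by simp; omega) e hS

theorem resM (tab : OrderTable.{0}) (hK : ∀ (X : Type) [Group X] [Finite X] [IsSimpleGroup X], IsKnownSimple' X)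
    {m : ℕ} (hm : 5 ≤ m) (ho : Odd m) : ResM m := by
  intro F _ _ hodd a b hab M hM hc P hP
  obtain ⟨S, _, ⟨e⟩, hS⟩ := Cfsg.Agent.H144.Odm.res_minus tab hK hab hm (Nat.odd_iff.1 ho) hodd hM hc hP
  exact Cfsg.Agent.H210.DoRes.do_res (two_ne hodd) hP (n := m - 1) (q := Fintype.card F) (by omega)
    (fun h => by rw [Nat.odd_iff] at hodd; omega) (by simp; omega) e hS

/-- `PΩ⁺_{2m}(q)`, `m` and `q` odd, from E-LEM -/
theorem row_oplus_odd' (tab : OrderTable.{0})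
    (hK : ∀ (X : Type) [Group X] [Finite X] [IsSimpleGroup X], IsKnownSimple' X) {n q : ℕ} (hG : GeoP n)
    (ho : Odd n) (h2 : ¬ 2 ∣ q) : RowN.{u} (.oplus n q) := by
  by_cases hn : 5 ≤ n
  · exact row_oplus_odd_of hG (resP tab hK hn ho) ho h2
  · intro T _ _ _ h
    have h4 : 4 ≤ n := h.cond.1
    obtain ⟨k, rfl⟩ := ho
    omega

/-- `PΩ⁻_{2m}(q)`, `m` and `q` odd, from E-LEM -/
theorem row_ominus_odd' (tab : OrderTable.{0})
    (hK : ∀ (X : Type) [Group X] [Finite X] [IsSimpleGroup X], IsKnownSimple' X) {n q : ℕ} (hG : GeoM n)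
    (ho : Odd n) (h2 : ¬ 2 ∣ q) : RowN.{u} (.ominus n q) := by
  by_cases hn : 5 ≤ n
  · exact row_ominus_odd_of hG (resM tab hK hn ho) ho h2
  · intro T _ _ _ h
    have h4 : 4 ≤ n := h.cond.1
    obtain ⟨k, rfl⟩ := ho
    omega

end Cfsg.Agent.H660.OddM
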